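import Cfsg.Agent.AutOrth.Final
import Cfsg.Agent.H919.Gs.Num
import Cfsg.Agent.H989.OutOrth.Basic

/-!
# S4327, orthogonal groups: from semisimilarities to the rows (helper100)
-/

set_option autoImplicit false
set_option linter.unusedSectionVars false

namespace Cfsg.Agent.H100.Gs

open QuadraticMap Cfsg.Agent.LieClassical.OrthCore Cfsg.Agent.LieClassical.OrthTrans
  Cfsg.Agent.LieClassical.OrthSimple Cfsg.Agent.ClassicalGeometry.OrthSemi Cfsg.Agent.H915.Gs
open Cfsg.Agent.ClassicalGeometry.OrthAut1 (P)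
open Cfsg.Agent.AutOrth.Main (pe good_plus good_minus good_odd plusForm_eq minusForm_eq oddForm_eq)
open Cfsg.Agent.LieClassical.QuadForms (plusForm minusForm oddForm coe_plusForm coe_minusForm coe_oddForm)
open Module (finrank)

/-- the conclusion for one automorphism -/
def Out {F V : Type*} [Field F] [AddCommGroup V] [Module F V] (Q : QuadraticForm F V) (r : ℕ)
    (x : MulAut (P Q)) : Prop :=
  Reach x 11 ⊤ ∨ (Reach x (finrank F V) ⊤ ∧
    (r ∣ Nat.card (P Q) → 2 * (r - 2) < finrank F V → Ord x (2 * (r - 2)) r))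

/-- the numbers -/
def NumOK {F V : Type*} [Field F] [AddCommGroup V] [Module F V] (Q : QuadraticForm F V) : Prop :=
  ∀ r : ℕ, r.Prime → r ≠ 2 → ¬ r ∣ Nat.card (P Q) → finrank F V ≤ r - 1

section

variable {F V : Type*} [Field F] [AddCommGroup V] [Module F V] {Q : QuadraticForm F V}

theorem finite_P [Finite V] : Finite (P Q) := by
  have h1 : Finite (V ≃ₗ[F] V) := DFunLike.finite _
  have h2 : Finite ↥(E Q) := Subtype.finite
  exact Quotient.finite _

theorem Out.tri [Finite (P Q)] (hG : Good Q) (h7 : 7 ≤ finrank F V) (hN : NumOK Q) {r : ℕ} {x : MulAut (P Q)}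
    (hr : r.Prime) (h2 : r ≠ 2) (h : Out Q r x) : Tri r x := by
  rcases h with h | ⟨h, ho⟩
  · exact Or.inl h
  · exact Cfsg.Agent.H919.Gs.tri_of (by omega) (Cfsg.Agent.H989.OutOrth.Basic.conj_injective hG) (hN r hr h2) h ho

theorem row_of_out [Finite (P Q)] (hG : Good Q) (h7 : 7 ≤ finrank F V) (hN : NumOK Q)
    (h : ∀ r : ℕ, r.Prime → r ≠ 2 → ∀ x : MulAut (P Q), (orderOf x).Prime → Out Q r x) : Row (P Q) :=
  fun r x hr h2 hx => (h r hr h2 x hx).tri hG h7 hN hr h2

theorem row_of_surj [Finite (P Q)] (hG : Good Q) (h7 : 7 ≤ finrank F V) (hN : NumOK Q)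
    (hs : Function.Surjective (Psi Q))
    (h : ∀ r : ℕ, r.Prime → r ≠ 2 → ∀ M : Gam Q, (orderOf (Psi Q M)).Prime → Out Q r (Psi Q M)) : Row (P Q) := by
  refine row_of_out hG h7 hN fun r hr h2 x hx => ?_
  obtain ⟨M, rfl⟩ := hs x
  exact h r hr h2 M hx

end

/-- an element of prime order `p` has a conjugate in a subgroup of index prime to `p` -/
theorem exists_conj_mem {A : Type*} [Group A] [Finite A] (R : Subgroup A) {x : A} {p : ℕ} (hp : p.Prime)
    (hx : orderOf x = p) (hR : ¬ p ∣ R.index) : ∃ b : A, b⁻¹ * x * b ∈ R := by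
  have := Fact.mk hp
  have h1 : IsPGroup p (Subgroup.zpowers x) :=
    IsPGroup.of_card (n := 1) (by rw [Nat.card_zpowers, hx, pow_one])
  obtain ⟨c, hc⟩ := h1.nonempty_fixed_point_of_prime_not_dvd_card (A ⧸ R) (by rwa [Subgroup.index] at hR)
  obtain ⟨b, rfl⟩ := QuotientGroup.mk_surjective c
  have h2 := hc ⟨x, Subgroup.mem_zpowers x⟩
  have h3 : (QuotientGroup.mk (x * b) : A ⧸ R) = QuotientGroup.mk b := h2
  rw [eq_comm, QuotientGroup.eq, ← mul_assoc] at h3
  exact ⟨b, h3⟩

theorem reach_of_conj_mem {L : Type*} [Group L] {x b : MulAut L} {k : ℕ} (h : Reach (b⁻¹ * x * b) k ⊤) :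
    Reach x k ⊤ := by
  have h1 : Reach (b⁻¹ * x * b⁻¹⁻¹) k ⊤ := by rwa [inv_inv]
  have h2 := h1.of_mul_conj
  rwa [inv_inv, im, ← MonoidHom.range_eq_map, MonoidHom.range_eq_top.2 b.surjective] at h2

section

variable {F : Type*} [Field F]

theorem Out.eleven {V : Type*} [AddCommGroup V] [Module F V] {Q : QuadraticForm F V} {r : ℕ} {x : MulAut (P Q)}
    (h1 : 1 ≤ finrank F V) (h11 : finrank F V ≤ 11) (h : Out Q r x) : Reach x 11 ⊤ := by
  rcases h with h | ⟨h, -⟩
  · exact h
  · exact h.mono h1 h11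

/-- dimension 8, plus type -/
theorem reach_plus_four [Finite F] (hG : Good (plusForm 4 F))
    (h : ∀ M : Gam (plusForm 4 F), (orderOf (Psi (plusForm 4 F) M)).Prime → Out (plusForm 4 F) 3 (Psi (plusForm 4 F) M))
    (h3 : ∀ x : MulAut (P (plusForm 4 F)), x ∉ (Psi (plusForm 4 F)).range → x ^ 3 = 1 → Reach x 11 ⊤)
    {x : MulAut (P (plusForm 4 F))} (hx : (orderOf x).Prime) : Reach x 11 ⊤ := by
  have h8 : finrank F (Fin 4 ⊕ Fin 4 → F) = 8 := by simp
  by_cases hxR : x ∈ (Psi (plusForm 4 F)).range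
  · obtain ⟨M, rfl⟩ := hxR
    exact (h M hx).eleven (by omega) (by omega)
  · by_cases ho : orderOf x = 3
    · exact h3 x hxR (by rw [← ho]; exact pow_orderOf_eq_one x)
    · have hi : (Psi (plusForm 4 F)).range.index = 3 := by
        have := Cfsg.Agent.AutOrth.Final.index_plus_four (F := F)
        rwa [plusForm_eq] at this
      have hf : Finite (P (plusForm 4 F)) := finite_P
      have hf' : Finite (MulAut (P (plusForm 4 F))) := inferInstance
      obtain ⟨b, M, hM⟩ := exists_conj_mem (Psi (plusForm 4 F)).range hx rfl (by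
        rw [hi]
        intro hd
        exact ho ((Nat.prime_dvd_prime_iff_eq hx Nat.prime_three).1 hd))
      have h5 : orderOf (b⁻¹ * x * b) = orderOf x := by
        have : b⁻¹ * x * b = MulAut.conj b⁻¹ x := by simp
        rw [this]
        exact MulEquiv.orderOf_eq _ x
      refine reach_of_conj_mem (b := b) ?_
      rw [← hM] at h5 ⊢
      exact (h M (by rw [h5]; exact hx)).eleven (by omega) (by omega)

end

section rows

variable {F : Type} [Field F] [Fintype F]

/-- **the odd row** -/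
theorem row_odd {m : ℕ} (hm : 3 ≤ m) (hodd : Odd (Fintype.card F))
    (h : ∀ r : ℕ, r.Prime → r ≠ 2 → ∀ M : Gam (oddForm m F), (orderOf (Psi (oddForm m F) M)).Prime →
      Out (oddForm m F) r (Psi (oddForm m F) M)) : Row (Cfsg.POmega F (Cfsg.quadFormOdd m F)) := by
  have h2 : (2 : F) ≠ 0 := by
    intro h2
    have h3 := FiniteField.even_card_of_char_two (F := F)
      (CharP.ringChar_of_prime_eq_zero Nat.prime_two (by exact_mod_cast h2))
    rw [Nat.odd_iff] at hodd
    omega
  have hG : Good (oddForm m F) := good_odd (by omega) h2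
  have hf : Finite (P (oddForm m F)) := finite_P
  have hd : finrank F ((Unit ⊕ (Fin m ⊕ Fin m)) → F) = 2 * m + 1 := by simp; omega
  have hc : Nat.card (Cfsg.POmega F (Cfsg.quadFormOdd m F)) = Nat.card (P (oddForm m F)) := by
    rw [← coe_oddForm]
    exact Nat.card_congr (pe hG).toEquiv
  rw [← coe_oddForm]
  refine Row.congr (pe hG).symm (row_of_surj hG (by omega) ?_ ?_ h)
  · intro r hr hr2 hdvd
    rw [← hc] at hdvd
    have := Cfsg.Agent.H919.Gs.pomegaOdd_not_dvd hodd hm hr hr2 hdvd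
    omega
  · have := Cfsg.Agent.AutOrth.Final.surjective_odd hm h2
    rwa [oddForm_eq] at this

/-- **the minus row** -/
theorem row_minus {m : ℕ} {a b : F} (hm : 4 ≤ m)
    (hab : ∀ z₁ z₂ : F, z₁ ^ 2 + a * z₁ * z₂ + b * z₂ ^ 2 = 0 → z₁ = 0 ∧ z₂ = 0)
    (h : ∀ r : ℕ, r.Prime → r ≠ 2 → ∀ M : Gam (minusForm (m - 1) F a b),
      (orderOf (Psi (minusForm (m - 1) F a b) M)).Prime →
      Out (minusForm (m - 1) F a b) r (Psi (minusForm (m - 1) F a b) M)) :
    Row (Cfsg.POmega F (Cfsg.quadFormMinus (m - 1) F a b)) := by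
  have hG : Good (minusForm (m - 1) F a b) := good_minus (by omega) hab
  have hf : Finite (P (minusForm (m - 1) F a b)) := finite_P
  have hc : Nat.card (Cfsg.POmega F (Cfsg.quadFormMinus (m - 1) F a b)) = Nat.card (P (minusForm (m - 1) F a b)) := by
    rw [← coe_minusForm]
    exact Nat.card_congr (pe hG).toEquiv
  have hd : finrank F (((Fin (m - 1) ⊕ Fin (m - 1)) ⊕ Fin 2) → F) = 2 * m := by simp; omega
  rw [← coe_minusForm]
  refine Row.congr (pe hG).symm (row_of_surj hG (by omega) ?_ ?_ h)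
  · intro r hr hr2 hdvd
    rw [← hc] at hdvd
    have := Cfsg.Agent.H919.Gs.pomegaMinus_not_dvd hm hab hr hr2 hdvd
    omega
  · have := Cfsg.Agent.AutOrth.Final.surjective_minus (m := m - 1) (by omega) hab
    rwa [minusForm_eq] at this

/-- **the plus row** -/
theorem row_plus {m : ℕ} (hm : 4 ≤ m)
    (h : ∀ r : ℕ, r.Prime → r ≠ 2 → ∀ M : Gam (plusForm m F), (orderOf (Psi (plusForm m F) M)).Prime →
      Out (plusForm m F) r (Psi (plusForm m F) M))
    (h3 : ∀ x : MulAut (P (plusForm 4 F)), x ∉ (Psi (plusForm 4 F)).range → x ^ 3 = 1 → Reach x 11 ⊤) :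
    Row (Cfsg.POmega F (Cfsg.quadFormPlus m F)) := by
  have hG : Good (plusForm m F) := good_plus (by omega)
  have hf : Finite (P (plusForm m F)) := finite_P
  have hc : Nat.card (Cfsg.POmega F (Cfsg.quadFormPlus m F)) = Nat.card (P (plusForm m F)) := by
    rw [← coe_plusForm]
    exact Nat.card_congr (pe hG).toEquiv
  have hd : finrank F ((Fin m ⊕ Fin m) → F) = 2 * m := by simp; omega
  rw [← coe_plusForm]
  refine Row.congr (pe hG).symm ?_
  have hN : NumOK (plusForm m F) := by
    intro r hr hr2 hdvd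
    rw [← hc] at hdvd
    have := Cfsg.Agent.H919.Gs.pomegaPlus_not_dvd hm hr hr2 hdvd
    omega
  rcases Nat.lt_or_ge m 5 with h5 | h5
  · obtain rfl : m = 4 := by omega
    intro r x hr hr2 hx
    exact Or.inl (reach_plus_four hG (h 3 Nat.prime_three (by norm_num)) h3 hx)
  · refine row_of_surj hG (by omega) hN ?_ h
    have := Cfsg.Agent.AutOrth.Final.surjective_plus (F := F) h5
    rwa [plusForm_eq] at this

end rows

end Cfsg.Agent.H100.Gs
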