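import Cfsg.Agent.H100.Gs.ReflVec
import Cfsg.Agent.H100.Gs.Refl

/-!
# S4327, orthogonal groups: `r - 1` conjugates of a reflection generate a group of order divisible by `r` (helper100)
-/

set_option autoImplicit false
set_option linter.unusedSectionVars false

namespace Cfsg.Agent.H100.Gs

open QuadraticMap Cfsg.Agent.LieClassical.OrthCore Cfsg.Agent.LieClassical.OrthTrans
  Cfsg.Agent.LieClassical.OrthSimple Cfsg.Agent.ClassicalGeometry.OrthSemi Cfsg.Agent.H915.Gs
open Cfsg.Agent.H989.OutOrth.Basic (ofO ofO_apply Psi_ofO)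
open Module (finrank)

variable {F V : Type*} [Field F] [AddCommGroup V] [Module F V] {Q : QuadraticForm F V}

theorem refl_swap {α : F} {x y : V} (hx : Q x = 0) (hy : Q y = 0) (hxy : polar Q x y = -α) :
    Q (x - y) = α := by
  rw [sub_eq_add_neg, Q_add, QuadraticMap.map_neg, hx, hy, polar_neg_right, hxy]
  ring

theorem Psi_conj_refl (hG : Good Q) {M : Gam Q} {w : V} (hw : Q w ≠ 0) (hM : ∀ v, M.1 v = refl Q w hw v)
    {c : V} (hc : Q c = Q w) : ∃ (h0 : Q c ≠ 0) (f : ↥(E Q)),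
    Psi Q (ofO Q ⟨refl Q c h0, refl_mem_O h0⟩) =
      MulAut.conj (QuotientGroup.mk f : ↥(E Q) ⧸ Subgroup.center ↥(E Q)) * Psi Q M *
        (MulAut.conj (QuotientGroup.mk f : ↥(E Q) ⧸ Subgroup.center ↥(E Q)))⁻¹ := by
  have h0 : Q c ≠ 0 := by rw [hc]; exact hw
  have hw0 : w ≠ 0 := by rintro rfl; exact hw (map_zero Q)
  have hc0 : c ≠ 0 := by rintro rfl; exact h0 (map_zero Q)
  obtain ⟨g, hgE, hg⟩ := hG.trans_norm hw0 hc0 hc.symm
  refine ⟨h0, ⟨g, hgE⟩, ?_⟩
  have hMO : M = ofO Q ⟨refl Q w hw, refl_mem_O hw⟩ := ext_Gam hM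
  have e := Psi_ofO (Q := Q) ⟨g, hgE⟩
  rw [← e, ← map_inv, ← map_mul, ← map_mul]
  congr 1
  rw [hMO, ← map_inv, ← map_mul, ← map_mul]
  congr 1
  apply Subtype.ext
  have h1 : Q (g w) ≠ 0 := by rw [hg]; exact h0
  have h2 := refl_conj (E_le_O hgE) hw h1
  change refl Q c h0 = g * refl Q w hw * g⁻¹
  rw [h2]
  congr 1
  exact hg.symm

/-- **the reflections, `r`-part** -/
theorem refl_ord [FiniteDimensional F V] [Finite F] (hG : Good Q) (h12 : 12 ≤ finrank F V) (M : Gam Q)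
    {w : V} (hw : Q w ≠ 0) (hM : ∀ v, M.1 v = refl Q w hw v) {r : ℕ} (hr : r.Prime) (h2 : r ≠ 2)
    (hn : 2 * (r - 2) < finrank F V) : Ord (Psi Q M) (r - 1) r := by
  have hr2 := hr.two_le
  obtain ⟨x, hx0, hx1⟩ := exists_SV hG.nondeg (Q w) h12 hn
  have hc : ∀ i, ∃ (t : ↥(O Q)) (f : ↥(E Q)),
      (i + 1 < r → t.1 (x i) = x (i + 1) ∧ t.1 (x (i + 1)) = x i ∧
        ∀ j < r, j ≠ i → j ≠ i + 1 → t.1 (x j) = x j) ∧
      Psi Q (ofO Q t) =
      MulAut.conj (QuotientGroup.mk f : ↥(E Q) ⧸ Subgroup.center ↥(E Q)) * Psi Q M *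
        (MulAut.conj (QuotientGroup.mk f : ↥(E Q) ⧸ Subgroup.center ↥(E Q)))⁻¹ := by
    intro i
    by_cases hi : i + 1 < r
    · have hQ := refl_swap (Q := Q) (hx0 i (by omega)) (hx0 (i + 1) hi) (hx1 i (by omega) (i + 1) hi (by omega))
      obtain ⟨h0, f, hf⟩ := Psi_conj_refl hG hw hM hQ
      refine ⟨⟨refl Q (x i - x (i + 1)) h0, refl_mem_O h0⟩, f, fun _ => ⟨?_, ?_, ?_⟩, hf⟩
      · exact refl_sub_apply (by rw [hx0 i (by omega), hx0 (i + 1) hi]) h0
      · have h3 := refl_sub_apply (Q := Q) (x := x (i + 1)) (y := x i)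
          (by rw [hx0 i (by omega), hx0 (i + 1) hi]) h0
        have h4 := LinearEquiv.congr_fun (refl_mul_self h0) (x i)
        change refl Q _ h0 (refl Q _ h0 (x i)) = x i at h4
        rw [h3] at h4
        exact h4
      · intro j hj hji hji'
        show refl Q _ h0 (x j) = x j
        rw [refl_apply, polar_sub_left, hx1 i (by omega) j hj (Ne.symm hji),
          hx1 (i + 1) hi j hj (Ne.symm hji'), sub_self, mul_zero, zero_smul, sub_zero]
    · exact ⟨⟨refl Q w hw, refl_mem_O hw⟩, 1, fun h => absurd h hi, by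
        have hMO : M = ofO Q ⟨refl Q w hw, refl_mem_O hw⟩ := ext_Gam hM
        rw [← hMO, QuotientGroup.mk_one, map_one, one_mul, inv_one, mul_one]⟩
  choose t f ht hf using hc
  refine ⟨fun i => QuotientGroup.mk (f i), ?_⟩
  have hmem : ∀ i, i + 1 < r → Psi Q (ofO Q (t i)) ∈ Gn (Psi Q M)
      (fun i : Fin (r - 1) => (QuotientGroup.mk (f i) : ↥(E Q) ⧸ Subgroup.center ↥(E Q))) := by
    intro i hi
    rw [hf i]
    exact mem_Gn (Psi Q M) (fun i : Fin (r - 1) => (QuotientGroup.mk (f i) : ↥(E Q) ⧸ Subgroup.center ↥(E Q)))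
      ⟨i, by omega⟩
  have key : ∀ k, k + 1 ≤ r → ∃ G : ↥(O Q), Psi Q (ofO Q G) ∈ Gn (Psi Q M)
      (fun i : Fin (r - 1) => (QuotientGroup.mk (f i) : ↥(E Q) ⧸ Subgroup.center ↥(E Q))) ∧
      (∀ j < k, G.1 (x j) = x (j + 1)) ∧ G.1 (x k) = x 0 ∧ ∀ j, k < j → j < r → G.1 (x j) = x j := by
    intro k
    induction k with
    | zero =>
      intro _
      exact ⟨1, by rw [map_one, map_one]; exact one_mem _, fun j hj => absurd hj (by omega), rfl, fun _ _ _ => rfl⟩
    | succ k ih =>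
      intro hk
      obtain ⟨G, hG0, h1, h3, h4⟩ := ih (by omega)
      obtain ⟨ha, hb, hcc⟩ := ht k (by omega)
      refine ⟨G * t k, ?_, ?_, ?_, ?_⟩
      · rw [map_mul, map_mul]
        exact mul_mem hG0 (hmem k (by omega))
      · intro j hj
        show G.1 ((t k).1 (x j)) = _
        by_cases hjk : j = k
        · subst hjk
          rw [ha]
          exact h4 (j + 1) (by omega) (by omega)
        · rw [hcc j (by omega) hjk (by omega)]
          exact h1 j (by omega)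
      · show G.1 ((t k).1 (x (k + 1))) = _
        rw [hb, h3]
      · intro j hj hjr
        show G.1 ((t k).1 (x j)) = _
        rw [hcc j hjr (by omega) (by omega)]
        exact h4 j (by omega) hjr
  obtain ⟨G, hGn, h1, h3, -⟩ := key (r - 1) (by omega)
  have hstep : ∀ j < r, G.1 (x j) = x ((j + 1) % r) := by
    intro j hj
    by_cases h : j + 1 < r
    · rw [Nat.mod_eq_of_lt h]
      exact h1 j (by omega)
    · have : j = r - 1 := by omega
      subst this
      rw [h3, show r - 1 + 1 = r by omega, Nat.mod_self]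
  have hpow : ∀ N : ℕ, (G ^ N).1 (x 0) = x (N % r) := by
    intro N
    induction N with
    | zero => rw [Nat.zero_mod]; rfl
    | succ N ih =>
      rw [pow_succ']
      show G.1 ((G ^ N).1 (x 0)) = _
      rw [ih, hstep _ (Nat.mod_lt _ (by omega)), Nat.mod_add_mod]
  refine dvd_trans ?_ (Subgroup.orderOf_dvd_natCard _ hGn)
  set N := orderOf (Psi Q (ofO Q G)) with hN
  have hone : Psi Q (ofO Q (G ^ N)) = 1 := by
    rw [map_pow, map_pow, hN, pow_orderOf_eq_one]
  rw [← MonoidHom.mem_ker, ker_Psi hG] at hone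
  obtain ⟨a, ha⟩ := hone
  have h5 : (G ^ N).1 (x 0) = (a : F) • x 0 := by
    have : (ofO Q (G ^ N)).1 (x 0) = (scal Q a).1 (x 0) := by rw [ha]
    exact this
  rw [hpow] at h5
  by_contra hdvd
  have h6 : N % r ≠ 0 := fun h => hdvd (Nat.dvd_of_mod_eq_zero h)
  have h7 := hx1 0 (by omega) (N % r) (Nat.mod_lt _ (by omega)) (Ne.symm h6)
  rw [h5, polar_smul_right, polar_self', hx0 0 (by omega)] at h7
  apply hw
  simp only [mul_zero, smul_zero] at h7
  linear_combination h7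

end Cfsg.Agent.H100.Gs
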