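import Cfsg.Agent.H100.Gs.Conv
import Cfsg.Agent.H445.Gs.Tri
import Cfsg.Agent.H919.Gs.RThree
import Cfsg.Agent.H660.Gs.TriThree

/-!
# S4327: the three orthogonal rows (helper100; proofs by helper445, helper919, helper989, helper660, helper100)
-/

set_option autoImplicit false

namespace Cfsg.Agent.H100.Gs

open QuadraticMap Cfsg.Agent.LieClassical.OrthCore Cfsg.Agent.LieClassical.OrthTrans
  Cfsg.Agent.ClassicalGeometry.OrthSemi Cfsg.Agent.H915.Gs
open Cfsg.Agent.AutOrth.Main (good_plus good_minus good_odd)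
open Cfsg.Agent.LieClassical.QuadForms (plusForm minusForm oddForm)
open Module (finrank)

theorem two_ne_of_odd {F : Type*} [Field F] [Fintype F] (hodd : Odd (Fintype.card F)) : (2 : F) ≠ 0 := by
  intro h2
  have h3 := FiniteField.even_card_of_char_two (F := F)
    (CharP.ringChar_of_prime_eq_zero Nat.prime_two (by exact_mod_cast h2))
  rw [Nat.odd_iff] at hodd
  omega

/-- **the row of the odd-dimensional orthogonal groups** -/
theorem omega_odd (F : Type) [Field F] [Fintype F] (m : ℕ) (hm : 3 ≤ m) (hodd : Odd (Fintype.card F)) :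
    Row (Cfsg.POmega F (Cfsg.quadFormOdd m F)) := by
  have hG : Good (oddForm m F) := good_odd (by omega) (two_ne_of_odd hodd)
  have hd : finrank F ((Unit ⊕ (Fin m ⊕ Fin m)) → F) = 2 * m + 1 := by simp; omega
  exact row_odd hm hodd (Cfsg.Agent.H445.Gs.out_Psi_of hG (by omega) (Cfsg.Agent.H919.Gs.om_h3 hG))

/-- **the row of the orthogonal groups of minus type** -/
theorem omega_minus (F : Type) [Field F] [Fintype F] (m : ℕ) (a b : F) (hm : 4 ≤ m)
    (hab : ∀ z₁ z₂ : F, z₁ ^ 2 + a * z₁ * z₂ + b * z₂ ^ 2 = 0 → z₁ = 0 ∧ z₂ = 0) :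
    Row (Cfsg.POmega F (Cfsg.quadFormMinus (m - 1) F a b)) := by
  have hG : Good (minusForm (m - 1) F a b) := good_minus (by omega) hab
  have hd : finrank F (((Fin (m - 1) ⊕ Fin (m - 1)) ⊕ Fin 2) → F) = 2 * m := by simp; omega
  exact row_minus hm hab (Cfsg.Agent.H445.Gs.out_Psi_of hG (by omega) (Cfsg.Agent.H919.Gs.om_h3 hG))

/-- **the row of the orthogonal groups of plus type** -/
theorem omega_plus (F : Type) [Field F] [Fintype F] (m : ℕ) (hm : 4 ≤ m) :
    Row (Cfsg.POmega F (Cfsg.quadFormPlus m F)) := by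
  have hG : Good (plusForm m F) := good_plus (by omega)
  have hG4 : Good (plusForm 4 F) := good_plus (by norm_num)
  have hd : finrank F ((Fin m ⊕ Fin m) → F) = 2 * m := by simp; omega
  exact row_plus hm (Cfsg.Agent.H445.Gs.out_Psi_of hG (by omega) (Cfsg.Agent.H919.Gs.om_h3 hG))
    fun x hx ho => (Cfsg.Agent.H660.Gs.TriThree.reach_tri hG4 hx ho).mono (by norm_num) (by norm_num)

end Cfsg.Agent.H100.Gs
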